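import Mathlib.AlgebraicGeometry.EllipticCurve.VariableChange
import Mathlib.RingTheory.Etale.StandardEtale
import Mathlib.FieldTheory.IsAlgClosed.AlgebraicClosure
import Mathlib.RingTheory.LocalRing.ResidueField.Ideal
import Mathlib.RingTheory.Spectrum.Prime.RingHom
import Mathlib.Tactic.ComputeDegree
import Mathlib.Tactic.LinearCombination

/-!
# Elliptic curves with the same `j`-invariant away from `0` and `1728` (helper6)

Over any commutative ring `A`, an elliptic curve `W` in Weierstrass form whose `j`-invariant `j`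
satisfies `j, j - 1728 ∈ Aˣ` becomes isomorphic, over the finite étale double cover
`A[z]/(z² + a₁ z - (a₂ + 3r))`, `r = (18 b₆ - b₂ b₄)/c₄`, to the universal curve
`y² + xy = x³ - 36/(j-1728) x - 1/(j-1728)`.  The change of variables is
`(u, r, s, t) = (a₁ + 2z, r, z, -T/c₄)` with an explicit polynomial `T`; everything is valid in
all (mixed) characteristics.
-/

set_option autoImplicit false
set_option linter.unusedSectionVars false
set_option linter.unusedVariables false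
set_option linter.unusedSimpArgs false
set_option linter.style.haveILetI false
set_option maxHeartbeats 800000
set_option synthInstance.maxHeartbeats 400000

universe u

namespace Groth.Agent.Lib.Helper6.EllJ

open Polynomial

section Core

variable {B : Type u} [CommRing B]

/-- numerator of the translation parameter `r`. -/
def RR (W : WeierstrassCurve B) : B := 18 * W.b₆ - W.b₂ * W.b₄

/-- minus the numerator of the translation parameter `t`. -/
def TT (W : WeierstrassCurve B) : B :=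
  -W.a₁ ^ 3 * W.a₄ + 2 * W.a₁ ^ 2 * W.a₂ * W.a₃ - 4 * W.a₁ * W.a₂ * W.a₄ - 3 * W.a₁ * W.a₃ ^ 2
    + 36 * W.a₁ * W.a₆ + 8 * W.a₂ ^ 2 * W.a₃ - 24 * W.a₃ * W.a₄

lemma Pd (W : WeierstrassCurve B) : W.b₂ * W.c₄ + 12 * RR W = -W.c₆ := by
  simp only [RR, WeierstrassCurve.c₄, WeierstrassCurve.c₆, WeierstrassCurve.b₂,
    WeierstrassCurve.b₄, WeierstrassCurve.b₆]
  ring

lemma P3 (W : WeierstrassCurve B) : 2 * TT W = W.a₃ * W.c₄ + W.a₁ * RR W := by
  simp only [RR, TT, WeierstrassCurve.c₄, WeierstrassCurve.c₆, WeierstrassCurve.b₂,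
    WeierstrassCurve.b₄, WeierstrassCurve.b₆]
  ring

lemma P4 (W : WeierstrassCurve B) :
    W.a₄ * W.c₄ ^ 2 + 2 * W.a₂ * W.c₄ * RR W + W.a₁ * W.c₄ * TT W + 3 * RR W ^ 2
      = -36 * W.Δ := by
  simp only [RR, TT, WeierstrassCurve.c₄, WeierstrassCurve.c₆, WeierstrassCurve.Δ,
    WeierstrassCurve.b₂, WeierstrassCurve.b₄, WeierstrassCurve.b₆, WeierstrassCurve.b₈]
  ring

lemma P6 (W : WeierstrassCurve B) :
    W.a₆ * W.c₄ ^ 3 + W.a₄ * W.c₄ ^ 2 * RR W + W.a₂ * W.c₄ * RR W ^ 2 + RR W ^ 3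
      + W.a₃ * W.c₄ ^ 2 * TT W - W.c₄ * TT W ^ 2 + W.a₁ * W.c₄ * RR W * TT W
      = W.c₆ * W.Δ := by
  simp only [RR, TT, WeierstrassCurve.c₄, WeierstrassCurve.c₆, WeierstrassCurve.Δ,
    WeierstrassCurve.b₂, WeierstrassCurve.b₄, WeierstrassCurve.b₆, WeierstrassCurve.b₈]
  ring

/-- The explicit change of variables to the universal curve, given inverses of `c₄`, `c₆` and a
root `z` of `z² + a₁ z = a₂ + 3r`. -/
theorem core (W : WeierstrassCurve B) (ic i6 z : B) (hic : ic * W.c₄ = 1) (hi6 : i6 * W.c₆ = 1)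
    (hz : z ^ 2 + W.a₁ * z = W.a₂ + 3 * (RR W * ic)) :
    ∃ C : WeierstrassCurve.VariableChange B,
      C • W = ⟨1, 0, 0, -36 * (W.Δ * i6 ^ 2), -(W.Δ * i6 ^ 2)⟩ := by
  have hb2 : W.b₂ = W.a₁ ^ 2 + 4 * W.a₂ := rfl
  obtain ⟨u, hu⟩ : ∃ u : B, u = W.a₁ + 2 * z := ⟨_, rfl⟩
  have hu2 : u ^ 2 = -W.c₆ * ic := by
    rw [hu]; linear_combination 4 * hz + ic * Pd W - W.b₂ * hic - hb2
  obtain ⟨v, hv⟩ : ∃ v : B, v = -(u * W.c₄ * i6) := ⟨_, rfl⟩
  have huv : u * v = 1 := by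
    rw [hv]; linear_combination (-(W.c₄ * i6)) * hu2 + i6 * W.c₆ * hic + hi6
  have hv2 : v ^ 2 = -(W.c₄ * i6) := by
    rw [hv]
    linear_combination W.c₄ ^ 2 * i6 ^ 2 * hu2 - W.c₄ * i6 * (i6 * W.c₆) * hic - W.c₄ * i6 * hi6
  have hv4 : v ^ 4 = W.c₄ ^ 2 * i6 ^ 2 := by
    linear_combination (v ^ 2 - W.c₄ * i6) * hv2
  have hv6 : v ^ 6 = -(W.c₄ ^ 3 * i6 ^ 3) := by
    linear_combination (v ^ 4 - v ^ 2 * W.c₄ * i6 + W.c₄ ^ 2 * i6 ^ 2) * hv2
  obtain ⟨r, hr⟩ : ∃ r : B, r = RR W * ic := ⟨_, rfl⟩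
  obtain ⟨t, ht⟩ : ∃ t : B, t = -(TT W * ic) := ⟨_, rfl⟩
  have hE3 : W.a₃ + r * W.a₁ + 2 * t = 0 := by
    rw [hr, ht]; linear_combination (-ic) * P3 W - W.a₃ * hic
  have hE4 : W.a₄ - z * W.a₃ + 2 * r * W.a₂ - (t + r * z) * W.a₁ + 3 * r ^ 2 - 2 * z * t
      = -36 * W.Δ * ic ^ 2 := by
    rw [hr, ht]
    linear_combination ic ^ 2 * P4 W
      - (W.a₄ * (ic * W.c₄ + 1) + 2 * W.a₂ * RR W * ic + W.a₁ * TT W * ic) * hic
      + z * (ic * P3 W + W.a₃ * hic)
  have hE6 : W.a₆ + r * W.a₄ + r ^ 2 * W.a₂ + r ^ 3 - t * W.a₃ - t ^ 2 - r * t * W.a₁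
      = ic ^ 3 * W.c₆ * W.Δ := by
    rw [hr, ht]
    linear_combination ic ^ 3 * P6 W
      - (W.a₆ * ((ic * W.c₄) ^ 2 + ic * W.c₄ + 1)
          + (RR W * ic * W.a₄ + TT W * ic * W.a₃) * (ic * W.c₄ + 1)
          + RR W ^ 2 * ic ^ 2 * W.a₂ - TT W ^ 2 * ic ^ 2 + RR W * TT W * ic ^ 2 * W.a₁) * hic
  have hvu : v * u = 1 := by rw [mul_comm]; exact huv
  refine ⟨⟨⟨u, v, huv, hvu⟩, r, z, t⟩, ?_⟩
  have hCu : (((⟨u, v, huv, hvu⟩ : Bˣ)⁻¹ : Bˣ) : B) = v := rfl
  ext
  · rw [WeierstrassCurve.variableChange_a₁]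
    simp only [hCu]
    rw [hu] at huv
    linear_combination huv
  · rw [WeierstrassCurve.variableChange_a₂]
    simp only [hCu]
    rw [hr]
    linear_combination (-v ^ 2) * hz
  · rw [WeierstrassCurve.variableChange_a₃]
    simp only [hCu]
    linear_combination v ^ 3 * hE3
  · rw [WeierstrassCurve.variableChange_a₄]
    simp only [hCu]
    linear_combination v ^ 4 * hE4 - 36 * W.Δ * ic ^ 2 * hv4
      - 36 * W.Δ * i6 ^ 2 * (ic * W.c₄ + 1) * hic
  · rw [WeierstrassCurve.variableChange_a₆]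
    simp only [hCu]
    linear_combination v ^ 6 * hE6 + ic ^ 3 * W.c₆ * W.Δ * hv6
      - W.Δ * i6 ^ 2 * (((ic * W.c₄) ^ 2 + ic * W.c₄ + 1) * i6 * W.c₆) * hic
      - W.Δ * i6 ^ 2 * hi6

lemma RR_map {A : Type u} [CommRing A] (W : WeierstrassCurve A) (φ : A →+* B) :
    RR (W.map φ) = φ (RR W) := by
  simp only [RR, WeierstrassCurve.map_b₂, WeierstrassCurve.map_b₄, WeierstrassCurve.map_b₆,
    map_sub, map_mul, map_ofNat]

end Core

section Units

variable {A : Type u} [CommRing A] (W : WeierstrassCurve A) [W.IsElliptic]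

lemma inv_mul_Δ : (↑W.Δ'⁻¹ : A) * W.Δ = 1 := by
  rw [← W.coe_Δ']; exact W.Δ'.inv_mul

lemma iota_mul (i6 : A) (hi6 : i6 * W.c₆ = 1) : W.Δ * i6 ^ 2 * (W.j - 1728) = 1 := by
  have hD := inv_mul_Δ W
  have crel := W.c_relation
  rw [WeierstrassCurve.j]
  linear_combination 1728 * W.Δ * i6 ^ 2 * hD + (i6 * W.c₆) ^ 2 * hD + (i6 * W.c₆ + 1) * hi6
    - W.Δ * i6 ^ 2 * (↑W.Δ'⁻¹ : A) * crel

lemma isUnit_c₄ (h0 : IsUnit W.j) : IsUnit W.c₄ := by
  have hD := inv_mul_Δ W
  have h : W.c₄ ^ 3 = W.Δ * W.j := by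
    rw [WeierstrassCurve.j]; linear_combination (-W.c₄ ^ 3) * hD
  have : IsUnit (W.c₄ ^ 3) := by rw [h]; exact W.isUnit_Δ.mul h0
  exact (isUnit_pow_iff (by norm_num)).mp this

lemma isUnit_c₆ (h1 : IsUnit (W.j - 1728)) : IsUnit W.c₆ := by
  have hD := inv_mul_Δ W
  have crel := W.c_relation
  have h : W.c₆ ^ 2 = W.Δ * (W.j - 1728) := by
    rw [WeierstrassCurve.j]; linear_combination (-W.c₄ ^ 3) * hD + crel
  have : IsUnit (W.c₆ ^ 2) := by rw [h]; exact W.isUnit_Δ.mul h1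
  exact (isUnit_pow_iff (by norm_num)).mp this

end Units

section Cover

variable {A : Type u} [CommRing A]

/-- the monic quadratic `X² + aX - b`. -/
noncomputable def quad (a b : A) : A[X] := X ^ 2 + C a * X - C b

lemma quad_monic (a b : A) : (quad a b).Monic := by
  unfold quad; monicity!

lemma derivative_quad (a b : A) : derivative (quad a b) = 2 * X + C a := by
  simp [quad, derivative_X_pow]
  ring

/-- the standard étale pair `(X² + aX - b, 1)`, when the discriminant `a² + 4b` is a unit. -/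
noncomputable def pair (a b dinv : A) (hd : dinv * (a ^ 2 + 4 * b) = 1) : StandardEtalePair A where
  f := quad a b
  monic_f := quad_monic a b
  g := 1
  cond := ⟨C dinv * derivative (quad a b), -4 * C dinv, 0, by
    rw [derivative_quad, pow_zero]
    have := congrArg C hd
    simp only [map_mul, map_add, map_pow, map_ofNat, map_one] at this
    unfold quad
    linear_combination this⟩

/-- A monic quadratic with unit discriminant has a root in a finite étale cover which is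
surjective on spectra. -/
theorem exists_cover (a b dinv : A) (hd : dinv * (a ^ 2 + 4 * b) = 1) :
    ∃ (B : Type u) (_ : CommRing B) (_ : Algebra A B), Algebra.Etale A B ∧
      Function.Surjective (PrimeSpectrum.comap (algebraMap A B)) ∧
      ∃ z : B, z ^ 2 + algebraMap A B a * z = algebraMap A B b := by
  let P := pair a b dinv hd
  refine ⟨P.Ring, inferInstance, inferInstance, inferInstance, ?_, P.X, ?_⟩
  · intro p
    let K := AlgebraicClosure p.asIdeal.ResidueField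
    have hnat : ((quad a b).map (algebraMap A K)).natDegree = 2 := by
      simp only [quad, Polynomial.map_sub, Polynomial.map_add, Polynomial.map_mul,
        Polynomial.map_pow, Polynomial.map_X, Polynomial.map_C]
      compute_degree!
    have hdeg : ((quad a b).map (algebraMap A K)).degree ≠ 0 := by
      intro h
      have := Polynomial.natDegree_eq_zero_iff_degree_le_zero.mpr h.le
      omega
    obtain ⟨x, hx⟩ := IsAlgClosed.exists_root _ hdeg
    have hmap : P.HasMap x := ⟨by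
      show aeval x (quad a b) = 0
      rw [aeval_def, ← eval_map]; exact hx, by
      show IsUnit (aeval x (1 : A[X]))
      simp⟩
    let ψ : P.Ring →ₐ[A] K := P.lift x hmap
    refine ⟨⟨RingHom.ker ψ.toRingHom, RingHom.ker_isPrime _⟩, ?_⟩
    ext y
    simp only [PrimeSpectrum.comap_asIdeal, Ideal.mem_comap, RingHom.mem_ker]
    rw [show ψ.toRingHom (algebraMap A P.Ring y) = algebraMap A K y from ψ.commutes y,
      IsScalarTower.algebraMap_apply A p.asIdeal.ResidueField K,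
      map_eq_zero (algebraMap p.asIdeal.ResidueField K), Ideal.algebraMap_residueField_eq_zero]
  · have h : aeval P.X (quad a b) = 0 := P.hasMap_X.1
    simpa [quad, sub_eq_zero] using h

end Cover

section Step

variable (A : Type u) [CommRing A]

/-- An elliptic curve with `j` and `j - 1728` invertible is, over a surjective étale cover,
isomorphic to the universal curve `y² + xy = x³ - 36/(j-1728) x - 1/(j-1728)`. -/
theorem step (W : WeierstrassCurve A) [W.IsElliptic]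
    (h0 : IsUnit W.j) (h1 : IsUnit (W.j - 1728)) :
    ∃ (B : Type u) (_ : CommRing B) (_ : Algebra A B), Algebra.Etale A B ∧
      Function.Surjective (PrimeSpectrum.comap (algebraMap A B)) ∧
      ∃ (C : WeierstrassCurve.VariableChange B) (ι : B),
        ι * (algebraMap A B W.j - 1728) = 1 ∧
        C • (W.map (algebraMap A B)) = ⟨1, 0, 0, -36 * ι, -ι⟩ := by
  obtain ⟨ic, hic⟩ := (isUnit_c₄ W h0).exists_left_inv
  obtain ⟨i6, hi6⟩ := (isUnit_c₆ W h1).exists_left_inv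
  have hd : (-(W.c₄ * i6)) * (W.a₁ ^ 2 + 4 * (W.a₂ + 3 * (RR W * ic))) = 1 := by
    have hb2 : W.b₂ = W.a₁ ^ 2 + 4 * W.a₂ := rfl
    linear_combination (-(W.c₄ * i6)) * (ic * Pd W - W.b₂ * hic - hb2) + i6 * W.c₆ * hic + hi6
  obtain ⟨B, _, _, het, hsurj, z, hz⟩ :=
    exists_cover W.a₁ (W.a₂ + 3 * (RR W * ic)) (-(W.c₄ * i6)) hd
  refine ⟨B, inferInstance, inferInstance, het, hsurj, ?_⟩
  obtain ⟨φ, hφ⟩ : ∃ φ : A →+* B, φ = algebraMap A B := ⟨_, rfl⟩
  rw [← hφ] at hz ⊢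
  have hic' : φ ic * (W.map φ).c₄ = 1 := by
    rw [WeierstrassCurve.map_c₄, ← map_mul, hic, map_one]
  have hi6' : φ i6 * (W.map φ).c₆ = 1 := by
    rw [WeierstrassCurve.map_c₆, ← map_mul, hi6, map_one]
  have hz' : z ^ 2 + (W.map φ).a₁ * z = (W.map φ).a₂ + 3 * (RR (W.map φ) * φ ic) := by
    rw [RR_map, WeierstrassCurve.map_a₁, WeierstrassCurve.map_a₂, hz]
    simp only [map_add, map_mul, map_ofNat]
  obtain ⟨C, hC⟩ := core (W.map φ) (φ ic) (φ i6) z hic' hi6' hz'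
  refine ⟨C, (W.map φ).Δ * φ i6 ^ 2, ?_, hC⟩
  have := congrArg φ (iota_mul W i6 hi6)
  rw [WeierstrassCurve.map_Δ]
  simpa only [map_mul, map_sub, map_pow, map_ofNat, map_one] using this

/-- Two elliptic curves with the same `j`-invariant, `j` and `j - 1728` invertible, are isomorphic
over a surjective étale cover. -/
theorem exists_etale_iso (W₁ W₂ : WeierstrassCurve A) [W₁.IsElliptic] [W₂.IsElliptic]
    (hj : W₁.j = W₂.j) (h0 : IsUnit W₁.j) (h1728 : IsUnit (W₁.j - 1728)) :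
    ∃ (B : Type u) (_ : CommRing B) (_ : Algebra A B), Algebra.Etale A B ∧
      Function.Surjective (PrimeSpectrum.comap (algebraMap A B)) ∧
      ∃ C : WeierstrassCurve.VariableChange B,
        C • (W₁.map (algebraMap A B)) = W₂.map (algebraMap A B) := by
  obtain ⟨B₁, _, _, het₁, hs₁, C₁, ι₁, hι₁, hC₁⟩ := step A W₁ h0 h1728
  have h0' : IsUnit (W₂.map (algebraMap A B₁)).j := by
    rw [WeierstrassCurve.map_j, ← hj]; exact h0.map _
  have h1' : IsUnit ((W₂.map (algebraMap A B₁)).j - 1728) := by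
    rw [WeierstrassCurve.map_j, ← hj]
    have := h1728.map (algebraMap A B₁)
    simpa only [map_sub, map_ofNat] using this
  obtain ⟨B₂, _, _, het₂, hs₂, C₂, ι₂, hι₂, hC₂⟩ := step B₁ (W₂.map (algebraMap A B₁)) h0' h1'
  letI : Algebra A B₂ := ((algebraMap B₁ B₂).comp (algebraMap A B₁)).toAlgebra
  haveI : IsScalarTower A B₁ B₂ := IsScalarTower.of_algebraMap_eq (fun _ => rfl)
  haveI := het₁
  haveI := het₂
  refine ⟨B₂, inferInstance, inferInstance, Algebra.Etale.comp A B₁ B₂, ?_, ?_⟩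
  · intro p
    obtain ⟨q₁, hq₁⟩ := hs₁ p
    obtain ⟨q₂, hq₂⟩ := hs₂ q₁
    refine ⟨q₂, ?_⟩
    rw [show algebraMap A B₂ = (algebraMap B₁ B₂).comp (algebraMap A B₁) from rfl,
      PrimeSpectrum.comap_comp_apply, hq₂, hq₁]
  · obtain ⟨φ, hφ⟩ : ∃ φ : A →+* B₁, φ = algebraMap A B₁ := ⟨_, rfl⟩
    obtain ⟨ψ, hψ⟩ : ∃ ψ : B₁ →+* B₂, ψ = algebraMap B₁ B₂ := ⟨_, rfl⟩
    have hθ : algebraMap A B₂ = ψ.comp φ := by rw [hφ, hψ]; rfl
    rw [← hφ] at hι₁ hC₁ hι₂ hC₂
    rw [← hψ] at hι₂ hC₂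
    rw [hθ, ← WeierstrassCurve.map_map, ← WeierstrassCurve.map_map]
    have e1 : (C₁.map ψ) • ((W₁.map φ).map ψ) = ⟨1, 0, 0, -36 * ψ ι₁, -ψ ι₁⟩ := by
      rw [WeierstrassCurve.map_variableChange, hC₁]
      ext <;> simp [WeierstrassCurve.map, map_ofNat]
    have hι : ψ ι₁ = ι₂ := by
      have h := congrArg ψ hι₁
      rw [WeierstrassCurve.map_j, ← hj] at hι₂
      simp only [map_mul, map_sub, map_ofNat, map_one] at h
      linear_combination (-ψ ι₁) * hι₂ + ι₂ * h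
    rw [hι, ← hC₂] at e1
    refine ⟨C₂⁻¹ * C₁.map ψ, ?_⟩
    rw [mul_smul, e1, inv_smul_smul]

end Step

end Groth.Agent.Lib.Helper6.EllJ
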